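import Cfsg.Agent.CrossDeg.Fixed
import Cfsg.Agent.DegreeGraph.PPrimeDegree
import Cfsg.Agent.Core.MinimalNormal
import Cfsg.Agent.S2908

/-!
If in a `p`- and `q`-solvable group every character of degree prime to `p` that is trivial on
`O_{p'}` has degree prime to `q`, and conversely, then `q ∤ [G : O_{p'}(G)]` and conversely.
-/

set_option autoImplicit false
set_option linter.style.haveILetI false
set_option linter.unusedSectionVars false

open scoped commutatorElement Pointwise

namespace Cfsg.Agent.CrossDeg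

open Cfsg Cfsg.Agent

universe u

variable {p q : ℕ} [hp : Fact p.Prime] [hq : Fact q.Prime]

/-- Characters of degree prime to `p` trivial on `O_{p'}` have degree prime to `q`. -/
def PrimeDeg (p q : ℕ) (G : Type u) [Group G] : Prop :=
  ∀ χ : IrrCharacter G, (∀ k ∈ pPrimeCore p G, (χ : G → ℂ) k = (χ : G → ℂ) 1) →
    ¬ p ∣ charDegree (χ : G → ℂ) → ¬ q ∣ charDegree (χ : G → ℂ)

variable {G : Type u} [Group G] [Finite G]

omit hp hq in
theorem primeDeg_of_surjective {H : Type u} [Group H] [Finite H] {f : G →* H}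
    (hf : Function.Surjective f) (h : PrimeDeg p q G) : PrimeDeg p q H := by
  intro χ hker hd
  have hψ : IsIrrCharacter G (fun g => (χ : H → ℂ) (f g)) :=
    Chars.isIrrCharacter_comp_surjective χ.2 f hf
  have he : charDegree (fun g => (χ : H → ℂ) (f g)) = charDegree (χ : H → ℂ) := by simp [charDegree]
  have h1 := h ⟨_, hψ⟩ (fun k hk => by
    show (χ : H → ℂ) (f k) = (χ : H → ℂ) (f 1)
    rw [map_one]
    exact hker _ (Core.map_pPrimeCore_le hf ⟨k, hk, rfl⟩)) (by rw [he]; exact hd)
  rwa [he] at h1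

omit hp hq in
theorem index_core_dvd {H : Type u} [Group H] [Finite H] {f : G →* H}
    (hf : Function.Surjective f) (r : ℕ) :
    (pPrimeCore r H).index ∣ (pPrimeCore r G).index :=
  (Subgroup.index_dvd_of_le (Core.map_pPrimeCore_le hf)).trans ((pPrimeCore r G).index_map_dvd hf)

omit hp hq in
theorem normal_of_mul {N Y S : Subgroup G} (hXY : ∀ x : G, ∃ n ∈ N, n⁻¹ * x ∈ Y)
    (hN : N ≤ Subgroup.normalizer (S : Set G)) (hY : Y ≤ Subgroup.normalizer (S : Set G)) :
    S.Normal := by
  rw [← Subgroup.normalizer_eq_top_iff, eq_top_iff]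
  intro x _
  obtain ⟨n, hn, hy⟩ := hXY x
  simpa using Subgroup.mul_mem _ (hN hn) (hY hy)

omit hq in
theorem mem_of_pElement {R : Subgroup G} [R.Normal] (h : ¬ p ∣ R.index) {P : Subgroup G}
    (hP : IsPGroup p P) : P ≤ R := by
  intro x hx
  obtain ⟨k, hk⟩ := hP.exists_orderOf_eq_pow ⟨x, hx⟩
  rw [Subgroup.orderOf_mk] at hk
  rw [← QuotientGroup.eq_one_iff, ← orderOf_eq_one_iff]
  refine Nat.eq_one_of_dvd_coprimes ((hp.out.coprime_iff_not_dvd.2 h).pow_left k) ?_ ?_
  · exact hk ▸ orderOf_map_dvd (QuotientGroup.mk' R) x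
  · rw [Subgroup.index_eq_card]
    exact orderOf_dvd_natCard _

/-- The case `O_{p'} = 1`. -/
theorem not_dvd_card (hpq : p ≠ q) : ∀ (n : ℕ) (X : Type u) [Group X] [Finite X],
    Nat.card X = n → IsPSolvable p X → IsPSolvable q X → pPrimeCore p X = ⊥ →
    ¬ p ∣ (pPrimeCore q X).index → PrimeDeg p q X → ¬ q ∣ Nat.card X := by
  intro n
  induction n using Nat.strong_induction_on with
  | _ n ih =>
  intro X _ _ hn hps hqs hc hR hdeg hdvd
  classical
  haveI := Fintype.ofFinite X
  haveI : Nontrivial X := Finite.one_lt_card_iff_nontrivial.1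
    (lt_of_lt_of_le hq.out.one_lt (Nat.le_of_dvd Nat.card_pos hdvd))
  have hOp : pCore p X ≠ ⊥ := by
    rcases Core.piCore_ne_bot_or (Core.isPiSeparable_of_isPSolvable hps) with h | h
    · rwa [← Core.pCore_eq_piCore] at h
    · rw [← Core.pPrimeCore_eq_piCore] at h; exact absurd hc h
  obtain ⟨N, hmin, hNle⟩ := Core.exists_isMinNormal_le (inferInstance : (pCore p X).Normal) hOp
  haveI := hmin.1
  have hNp : IsPGroup p N := (Core.isPGroup_pCore p X).to_le hNle
  haveI : Group.IsNilpotent N := hNp.isNilpotent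
  haveI : Group.IsSolvable N := inferInstance
  have hNab := hmin.isMulCommutative inferInstance
  have hcommN : ∀ a ∈ N, ∀ b ∈ N, a * b = b * a := fun a ha b hb =>
    congrArg Subtype.val (hNab.1.1 ⟨a, ha⟩ ⟨b, hb⟩)
  have hN1 : 1 < Nat.card N := (Subgroup.one_lt_card_iff_ne_bot N).2 hmin.2.1
  obtain ⟨kN, hkN⟩ := IsPGroup.iff_card.1 hNp
  -- the quotient
  set π := QuotientGroup.mk' N with hπdef
  have hπ : Function.Surjective π := QuotientGroup.mk'_surjective N
  set W := pPrimeCore p (X ⧸ N) with hW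
  let f₁ : X →* (X ⧸ N) ⧸ W := (QuotientGroup.mk' W).comp π
  have hf₁ : Function.Surjective f₁ := (QuotientGroup.mk'_surjective W).comp hπ
  have hlt : Nat.card ((X ⧸ N) ⧸ W) < n := by
    refine lt_of_le_of_lt (Nat.card_le_card_of_surjective _ (QuotientGroup.mk'_surjective W)) ?_
    rw [← hn, Subgroup.card_eq_card_quotient_mul_card_subgroup N]
    exact lt_mul_of_one_lt_right Nat.card_pos hN1
  have hWi : ¬ q ∣ W.index := by
    rw [Subgroup.index_eq_card]
    exact ih _ hlt _ rfl (Core.isPSolvable_quotient (Core.isPSolvable_quotient hps N) W)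
      (Core.isPSolvable_quotient (Core.isPSolvable_quotient hqs N) W)
      (Core.pPrimeCore_quotient_pPrimeCore p _)
      (fun h => hR (h.trans (index_core_dvd hf₁ q))) (primeDeg_of_surjective hf₁ hdeg)
  set K := W.comap π with hK
  have hNK : N ≤ K := fun x hx => by
    rw [hK, Subgroup.mem_comap, show π x = 1 from (QuotientGroup.eq_one_iff x).2 hx]
    exact W.one_mem
  have hcardN : Nat.card (N.subgroupOf K) = Nat.card N :=
    Nat.card_congr (Subgroup.subgroupOfEquivOfLe hNK).toEquiv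
  have hXcard : Nat.card X = Nat.card N * (Nat.card W * W.index) := by
    rw [Subgroup.card_mul_index, Subgroup.card_eq_card_quotient_mul_card_subgroup N, mul_comm]
  have hKcard : Nat.card K = Nat.card N * Nat.card W := by
    have h := K.card_mul_index
    rw [hK, Subgroup.index_comap_of_surjective _ hπ, ← hK, hXcard, ← mul_assoc] at h
    exact Nat.eq_of_mul_eq_mul_right (Nat.pos_of_ne_zero W.index_ne_zero_of_finite) h
  have hidxN : (N.subgroupOf K).index = Nat.card W := by
    have h := (N.subgroupOf K).card_mul_index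
    rw [hcardN, hKcard] at h
    exact Nat.eq_of_mul_eq_mul_left Nat.card_pos h
  have hcopNW : (Nat.card N).Coprime (Nat.card W) := by
    rw [hkN]
    exact (Core.card_pPrimeCore_coprime p (X ⧸ N)).symm.pow_left kN
  have hcopK : (Nat.card (N.subgroupOf K)).Coprime (N.subgroupOf K).index := by
    rw [hcardN, hidxN]; exact hcopNW
  obtain ⟨A', hA'⟩ := Subgroup.exists_right_complement'_of_coprime hcopK
  have hA'card : Nat.card A' = (N.subgroupOf K).index := by
    have h := (Subgroup.IsComplement'.card_mul hA').trans (N.subgroupOf K).card_mul_index.symm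
    exact Nat.eq_of_mul_eq_mul_left Nat.card_pos h
  set A : Subgroup X := A'.map K.subtype with hA
  have hAcard : Nat.card A = Nat.card W := by
    rw [hA, Subgroup.card_map_of_injective K.subtype_injective, hA'card, hidxN]
  have hAK : A ≤ K := Subgroup.map_subtype_le _
  have hNA : N ⊓ A = ⊥ := Subgroup.inf_eq_bot_of_coprime (hAcard ▸ hcopNW)
  set Y := Subgroup.normalizer (A : Set X) with hY
  -- Frattini
  have hXY : ∀ x : X, ∃ n ∈ N, n⁻¹ * x ∈ Y := by
    intro x
    set A₂ := A.map (MulAut.conj x).toMonoidHom with hA₂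
    have hA₂K : A₂ ≤ K := Coprime.map_conj_le_iff.2 fun a ha =>
      (inferInstance : K.Normal).conj_mem a (hAK ha) x
    haveI : Group.IsSolvable (N.subgroupOf K) :=
      Group.isSolvable_of_surjective (f := (Subgroup.subgroupOfEquivOfLe hNK).symm.toMonoidHom)
        (Subgroup.subgroupOfEquivOfLe hNK).symm.surjective
    obtain ⟨m, hm, hmA⟩ := Core.exists_conj_eq_of_coprime hcopK (Or.inl inferInstance) hA'card
      (K := A₂.subgroupOf K) (by
        rw [Nat.card_congr (Subgroup.subgroupOfEquivOfLe hA₂K).toEquiv, hA₂, Coprime.card_map_conj,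
          hAcard, hidxN])
    refine ⟨m, hm, Coprime.mem_normalizer_of_conj_mem fun a ha => ?_⟩
    have h1 : x * a * x⁻¹ ∈ A₂ := by
      rw [hA₂, Coprime.map_conj_mem]; simpa [mul_assoc] using ha
    have h2 : (⟨x * a * x⁻¹, hA₂K h1⟩ : K) ∈ MulAut.conj m • A' := by
      rw [hmA]
      exact h1
    rw [Subgroup.mem_pointwise_smul_iff_inv_smul_mem] at h2
    refine ⟨_, h2, ?_⟩
    simp [MulAut.smul_def, mul_assoc]
  have hYA : ∀ y ∈ Y, ∀ a ∈ A, y * a * y⁻¹ ∈ A := fun y hy a ha =>
    (Subgroup.mem_normalizer_iff.1 hy a).1 ha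
  -- the centralizer of `A` in `N`
  have hNN : ∀ S : Subgroup X, S ≤ Subgroup.centralizer (N : Set X) →
      N ≤ Subgroup.normalizer (S : Set X) := fun S hS =>
    (Subgroup.le_centralizer_iff.1 hS).trans (Subgroup.centralizer_le_normalizer _)
  have hYS : ∀ S : Subgroup X, (∀ y ∈ Y, ∀ s ∈ S, y * s * y⁻¹ ∈ S) →
      Y ≤ Subgroup.normalizer (S : Set X) := fun S hS y hy =>
    Coprime.mem_normalizer_of_conj_mem (hS y hy)
  have hDn : (N ⊓ Subgroup.centralizer (A : Set X)).Normal := by
    refine normal_of_mul hXY (hNN _ ?_) (hYS _ ?_)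
    · intro d hd
      rw [Subgroup.mem_centralizer_iff]
      exact fun m hm => hcommN m hm d hd.1
    · intro y hy d hd
      refine ⟨hmin.1.conj_mem d hd.1 y, ?_⟩
      show y * d * y⁻¹ ∈ Subgroup.centralizer (A : Set X)
      rw [Subgroup.mem_centralizer_iff]
      intro a ha
      have h := Subgroup.mem_centralizer_iff.1 hd.2 _ (hYA y⁻¹ (Y.inv_mem hy) a ha)
      calc a * (y * d * y⁻¹) = y * ((y⁻¹ * a * y⁻¹⁻¹) * d) * y⁻¹ := by group
        _ = y * (d * (y⁻¹ * a * y⁻¹⁻¹)) * y⁻¹ := by rw [h]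
        _ = y * d * y⁻¹ * a := by group
  have hqN : ¬ q ∣ Nat.card N := fun h => hpq ((Nat.prime_dvd_prime_iff_eq hq.out hp.out).1
    (hq.out.dvd_of_dvd_pow (hkN ▸ h))).symm
  rcases hmin.2.2 _ hDn inf_le_left with hD | hD
  swap
  · have hNY : N ≤ Y := le_trans
      (by rw [← hD]; exact inf_le_right) (Subgroup.centralizer_le_normalizer _)
    haveI : A.Normal := normal_of_mul hXY hNY le_rfl
    have hA1 : A ≤ pPrimeCore p X := Core.le_pPrimeCore inferInstance
      (hAcard ▸ Core.card_pPrimeCore_coprime p (X ⧸ N))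
    rw [hc, le_bot_iff] at hA1
    rw [hA1, Subgroup.card_bot] at hAcard
    rw [hXcard, ← hAcard, one_mul] at hdvd
    exact hq.out.not_dvd_mul hqN hWi hdvd
  have hNY : ∀ x ∈ N, x ∈ Y → x = 1 := by
    intro x hx hxY
    have h : x ∈ N ⊓ Subgroup.centralizer (A : Set X) := by
      refine ⟨hx, Subgroup.mem_centralizer_iff.2 fun a ha => ?_⟩
      have h1 : x * a * x⁻¹ * a⁻¹ ∈ N ⊓ A := by
        refine ⟨?_, A.mul_mem (hYA x hxY a ha) (A.inv_mem ha)⟩
        rw [mul_assoc x a, mul_assoc x]
        exact N.mul_mem hx (hmin.1.conj_mem _ (N.inv_mem hx) a)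
      rw [hNA, Subgroup.mem_bot, mul_inv_eq_one, mul_inv_eq_iff_eq_mul] at h1
      exact h1.symm
    rwa [hD, Subgroup.mem_bot] at h
  have hCA : A ⊓ Subgroup.centralizer (N : Set X) = ⊥ := by
    haveI : (A ⊓ Subgroup.centralizer (N : Set X)).Normal := by
      refine normal_of_mul hXY (hNN _ inf_le_right) (hYS _ fun y hy s hs => ?_)
      exact ⟨hYA y hy s hs.1,
        (inferInstance : (Subgroup.centralizer (N : Set X)).Normal).conj_mem s hs.2 y⟩
    have h := Core.le_pPrimeCore (p := p) this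
      ((Core.card_pPrimeCore_coprime p (X ⧸ N)).coprime_dvd_left
        (hAcard ▸ Subgroup.card_dvd_of_le inf_le_left))
    rwa [hc, le_bot_iff] at h
  -- the complement
  have hbij : Function.Bijective (π.comp Y.subtype) := by
    refine ⟨(injective_iff_map_eq_one _).2 fun y hy =>
      Subtype.ext (hNY _ ((QuotientGroup.eq_one_iff (y : X)).1 hy) y.2), fun z => ?_⟩
    obtain ⟨x, rfl⟩ := hπ z
    obtain ⟨m, hm, hmy⟩ := hXY x
    refine ⟨⟨_, hmy⟩, ?_⟩
    show π (m⁻¹ * x) = π x
    rw [map_mul, map_inv, show π m = 1 from (QuotientGroup.eq_one_iff m).2 hm, inv_one, one_mul]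
  let eY := MulEquiv.ofBijective _ hbij
  let f : X →* Y := eY.symm.toMonoidHom.comp π
  have hfsurj : Function.Surjective f := eY.symm.surjective.comp hπ
  have hfY : ∀ y : Y, f (y : X) = y := fun y => eY.symm_apply_apply y
  have hfN : ∀ x ∈ N, f x = 1 := fun x hx => by
    show eY.symm (π x) = 1
    rw [show π x = 1 from (QuotientGroup.eq_one_iff x).2 hx, map_one]
  have hfmul : ∀ x : X, x * ((f x : Y) : X)⁻¹ ∈ N := by
    intro x
    rw [← QuotientGroup.eq_one_iff]
    show π (x * ((f x : Y) : X)⁻¹) = 1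
    rw [map_mul, map_inv, mul_inv_eq_one]
    exact (eY.apply_symm_apply (π x)).symm
  have hYcard : Nat.card Y = Nat.card W * W.index := by
    rw [Nat.card_congr eY.toEquiv, Subgroup.card_mul_index]
  set R := pPrimeCore q X with hRdef
  have hAY : A ≤ Y := Subgroup.le_normalizer
  haveI : (A.subgroupOf Y).Normal := Subgroup.normal_subgroupOf_of_le_normalizer le_rfl
  have hAYcard : Nat.card (A.subgroupOf Y) = Nat.card W :=
    (Nat.card_congr (Subgroup.subgroupOfEquivOfLe hAY).toEquiv).trans hAcard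
  have hAYi : ¬ q ∣ (A.subgroupOf Y).index := by
    have h := (A.subgroupOf Y).card_mul_index
    rw [hAYcard, hYcard] at h
    rw [Nat.eq_of_mul_eq_mul_left Nat.card_pos h]
    exact hWi
  obtain ⟨P₁⟩ : Nonempty (Sylow p Y) := inferInstance
  have hP₁R : (P₁ : Subgroup Y).map Y.subtype ≤ R := mem_of_pElement hR (P₁.2.map _)
  obtain ⟨Q, hQA, hQ, hQi, hQP, hQT⟩ := exists_sylow_le hpq (A.subgroupOf Y)
    (A.subgroupOf Y ⊓ R.subgroupOf Y) P₁ inf_le_left
    (by rw [hAYcard]; exact Core.not_dvd_card_pPrimeCore p (X ⧸ N))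
    (fun h => Core.not_dvd_card_pPrimeCore q X
      ((h.trans (Subgroup.card_dvd_of_le inf_le_right)).trans
        (Subgroup.card_comap_dvd_of_injective _ _ Y.subtype_injective)))
    hAYi
    (fun a ha x hx => by
      refine ⟨?_, ?_⟩
      · rw [commutatorElement_def, mul_assoc a x, mul_assoc a]
        exact Subgroup.mul_mem _ ha
          (Subgroup.Normal.conj_mem inferInstance _ (Subgroup.inv_mem _ ha) x)
      · show ⁅a, x⁆ ∈ R.subgroupOf Y
        rw [Subgroup.mem_subgroupOf, commutatorElement_def]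
        simp only [Subgroup.coe_mul, Subgroup.coe_inv]
        exact R.mul_mem ((inferInstance : R.Normal).conj_mem _ (hP₁R ⟨x, hx, rfl⟩) _)
          (R.inv_mem (hP₁R ⟨x, hx, rfl⟩)))
    (Core.isPSolvable_subgroup hqs Y)
    (fun φ hφ => by
      have hψ : IsIrrCharacter X (fun g => (φ : Y → ℂ) (f g)) :=
        Chars.isIrrCharacter_comp_surjective φ.2 f hfsurj
      have he : charDegree (fun g => (φ : Y → ℂ) (f g)) = charDegree (φ : Y → ℂ) := by
        simp [charDegree]
      have := hdeg ⟨_, hψ⟩ (fun k hk => by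
        rw [hc, Subgroup.mem_bot] at hk
        rw [hk]) (by rw [he]; exact hφ)
      rwa [he] at this)
  set P₁X := (P₁ : Subgroup Y).map Y.subtype with hP₁X
  set QX := Q.map Y.subtype with hQX
  have hQXA : QX ≤ A := by
    rintro _ ⟨y, hy, rfl⟩
    exact hQA hy
  have hPQ : ⁅P₁X, QX⁆ = ⊥ := by
    rw [Subgroup.commutator_eq_bot_iff_le_centralizer]
    rintro _ ⟨a, ha, rfl⟩
    rw [Subgroup.mem_centralizer_iff]
    rintro _ ⟨b, hb, rfl⟩
    exact (congrArg Subtype.val (Subgroup.mem_centralizer_iff.1 (hQP hb) a ha)).symm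
  have hQp : ¬ p ∣ Nat.card QX := fun h =>
    (Core.not_dvd_card_pPrimeCore p (X ⧸ N)) ((h.trans (Subgroup.card_dvd_of_le hQXA)).trans
      hAcard.dvd)
  have hnorm : ∀ S : Subgroup X, S ≤ Subgroup.normalizer (N : Set X) := fun S =>
    (Subgroup.normalizer_eq_top N).symm ▸ le_top
  -- `[N, Q] ≤ [N, P]`
  have hle : ⁅N, QX⁆ ≤ ⁅N, P₁X⁆ := by
    rw [Subgroup.commutator_le]
    intro m hm u hu
    by_contra hnot
    letI : CommGroup N := { (inferInstance : Group N) with
      mul_comm := fun a b => hNab.1.1 a b }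
    set J := (⁅N, P₁X⁆ : Subgroup X).subgroupOf N with hJ
    haveI : J.Normal := inferInstance
    have hcmem : ⁅m, u⁆ ∈ N := by
      rw [commutatorElement_def, mul_assoc m u, mul_assoc m]
      exact N.mul_mem hm (hmin.1.conj_mem _ (N.inv_mem hm) u)
    have hne : QuotientGroup.mk' J ⟨⁅m, u⁆, hcmem⟩ ≠ 1 := fun h =>
      hnot ((QuotientGroup.eq_one_iff _).1 h : (⟨⁅m, u⁆, hcmem⟩ : N) ∈ J)
    obtain ⟨φ₀, hφ₀⟩ := CommGroup.exists_apply_ne_one_of_hasEnoughRootsOfUnity (N ⧸ J) ℂ hne
    let lam : N →* ℂˣ := φ₀.comp (QuotientGroup.mk' J)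
    have hlam : lam ⟨⁅m, u⁆, hcmem⟩ ≠ 1 := hφ₀
    have hinv : ∀ s ∈ P₁X, ∀ k : N,
        lam ⟨s * k * s⁻¹, hmin.1.conj_mem (k : X) k.2 s⟩ = lam k := by
      intro s hs k
      show φ₀ _ = φ₀ _
      refine congrArg φ₀ ?_
      rw [QuotientGroup.mk'_apply, QuotientGroup.mk'_apply, QuotientGroup.eq,
        Subgroup.mem_subgroupOf]
      have h := Subgroup.commutator_mem_commutator k.2 hs
      have h2 : s * (k : X)⁻¹ * s⁻¹ ∈ N := hmin.1.conj_mem _ (N.inv_mem k.2) s
      simp only [Subgroup.coe_mul, Subgroup.coe_inv]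
      rw [show (s * (k : X) * s⁻¹)⁻¹ = s * (k : X)⁻¹ * s⁻¹ by group, hcommN _ h2 _ k.2]
      simpa [commutatorElement_def, mul_assoc] using h
    set PX : Subgroup X := (P₁ : Subgroup Y).comap f with hPX
    have hPXp : IsPGroup p PX := P₁.2.comap_of_ker_isPGroup f (hNp.to_le fun x hx => by
      rw [MonoidHom.mem_ker] at hx
      have := hfmul x
      rwa [hx, Subgroup.coe_one, inv_one, mul_one] at this)
    have hPXi : ¬ p ∣ PX.index := by
      rw [hPX, Subgroup.index_comap_of_surjective _ hfsurj]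
      exact P₁.not_dvd_index
    let P := hPXp.toSylow hPXi
    have hNP : N ≤ PX := fun x hx => by
      rw [hPX, Subgroup.mem_comap, hfN x hx]
      exact Subgroup.one_mem _
    let Lam : PX →* ℂˣ := MonoidHom.mk' (fun x => lam ⟨(x : X) * ((f x : Y) : X)⁻¹, hfmul x⟩)
      (fun x y => by
        rw [← hinv ((f (x : X) : Y) : X) (Subgroup.mem_map_of_mem _ x.2) ⟨_, hfmul (y : X)⟩,
          ← map_mul]
        congr 1
        apply Subtype.ext
        simp only [Subgroup.coe_mul, map_mul]
        group)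
    haveI iPX : Fintype PX := Fintype.ofFinite _
    haveI : Fintype (P : Subgroup X) := iPX
    obtain ⟨χ, hχ, hχne⟩ := DegreeGraph.exists_over_linear P Lam
    haveI : Fintype N := Fintype.ofFinite _
    have hχP : classInner (fun x : PX => (χ : X → ℂ) x) (fun x : PX => (Lam x : ℂ)) ≠ 0 := by
      intro h0
      refine hχne ?_
      rw [← Chars.classInner_conj_symm]
      exact (congrArg (starRingEnd ℂ)
        ((Chars.classInner_congr_fintype (G := (P : Subgroup X)) _ iPX _ _).trans h0)).trans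
        (map_zero _)
    have hθ : IsIrrCharacter N (fun x : N => (lam x : ℂ)) := Chars.isIrrCharacter_hom lam
    have hne' := restrict_ne_zero hNP (Chars.irr_isCharacter χ) (Chars.isIrrCharacter_hom Lam) hθ
      (fun x => by
        show ((lam ⟨(x : X) * ((f (x : X) : Y) : X)⁻¹, _⟩ : ℂˣ) : ℂ) = (lam x : ℂ)
        congr 2
        apply Subtype.ext
        simp [hfN _ x.2]) hχP
    set T := Chars2.inertiaSub (fun x : N => (lam x : ℂ)) with hT
    have hTi : ¬ q ∣ T.index := fun h => hdeg χ (fun k hk => by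
        rw [hc, Subgroup.mem_bot] at hk
        rw [hk]) hχ ((h.mul_right _).trans (dvd_of_over hθ χ hne'))
    have hNT : N ≤ T := Chars2.le_inertiaSub
      (Chars.isClassFunction_of_isCharacter (Chars.isCharacter_of_isIrr hθ))
    have hTeq : (T.subgroupOf Y).comap f = T := by
      ext x
      rw [Subgroup.mem_comap, Subgroup.mem_subgroupOf]
      constructor
      · intro h
        have := T.mul_mem (hNT (hfmul x)) h
        rwa [inv_mul_cancel_right] at this
      · intro h
        have := T.mul_mem (T.inv_mem (hNT (hfmul x))) h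
        simpa [mul_assoc] using this
    have huT : u ∈ T := by
      obtain ⟨y, hy, rfl⟩ := hu
      refine hQT (T.subgroupOf Y) (fun s hs => ?_) ?_ hy
      · rw [Subgroup.mem_subgroupOf, hT, Chars2.mem_inertiaSub]
        funext k
        rw [Chars2.conjFun_apply]
        exact congrArg Units.val (hinv _ (P₁X.inv_mem (Subgroup.mem_map_of_mem _ hs)) k)
      · rw [← Subgroup.index_comap_of_surjective (T.subgroupOf Y) hfsurj, hTeq]
        exact hTi
    have h1 := congrFun (Chars2.mem_inertiaSub.1 (T.inv_mem huT)) ⟨m⁻¹, N.inv_mem hm⟩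
    rw [Chars2.conjFun_apply] at h1
    have h2 : lam ⟨u * m⁻¹ * u⁻¹, hmin.1.conj_mem _ (N.inv_mem hm) u⟩ = (lam ⟨m, hm⟩)⁻¹ := by
      rw [← map_inv]
      refine Units.ext (Eq.trans ?_ h1)
      simp only [inv_inv]
    refine hlam ?_
    rw [show (⟨⁅m, u⁆, hcmem⟩ : N) = ⟨m, hm⟩ *
      ⟨u * m⁻¹ * u⁻¹, hmin.1.conj_mem _ (N.inv_mem hm) u⟩ from
        Subtype.ext (by simp [commutatorElement_def, mul_assoc]), map_mul, h2, mul_inv_cancel]
  have hNQ := S2908.result N P₁X QX hNp (P₁.2.map _) hQp (hnorm _) (hnorm _) hPQ hle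
  have hQ1 : QX = ⊥ := by
    rw [← le_bot_iff, ← hCA]
    exact le_inf hQXA
      (Subgroup.le_centralizer_iff.1 (Subgroup.commutator_eq_bot_iff_le_centralizer.1 hNQ))
  rw [hQX, Subgroup.map_eq_bot_iff_of_injective _ Y.subtype_injective] at hQ1
  rw [hQ1, Subgroup.index_bot, hYcard] at hQi
  rw [hXcard] at hdvd
  exact hq.out.not_dvd_mul hqN hQi hdvd

/-- Both indices are prime to the other prime. -/
theorem not_dvd_index (hpq : p ≠ q) : ∀ (n : ℕ) (G : Type u) [Group G] [Finite G],
    Nat.card G = n → IsPSolvable p G → IsPSolvable q G → PrimeDeg p q G → PrimeDeg q p G →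
    ¬ q ∣ (pPrimeCore p G).index ∧ ¬ p ∣ (pPrimeCore q G).index := by
  intro n
  induction n using Nat.strong_induction_on with
  | _ n ih =>
  intro G _ _ hn hps hqs hpd hqd
  rcases subsingleton_or_nontrivial G with hG | hG
  · constructor <;>
    · rw [show (pPrimeCore _ G).index = 1 from
        Subgroup.index_eq_one.2 (Subsingleton.elim _ _)]
      exact Nat.Prime.not_dvd_one (Fact.out)
  have hIH : ∀ N : Subgroup G, ∀ _ : N.Normal, N ≠ ⊥ →
      ¬ q ∣ (pPrimeCore p (G ⧸ N)).index ∧ ¬ p ∣ (pPrimeCore q (G ⧸ N)).index := by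
    intro N _ hN
    refine ih _ ?_ _ rfl (Core.isPSolvable_quotient hps N) (Core.isPSolvable_quotient hqs N)
      (primeDeg_of_surjective (QuotientGroup.mk'_surjective N) hpd)
      (primeDeg_of_surjective (QuotientGroup.mk'_surjective N) hqd)
    rw [← hn, Subgroup.card_eq_card_quotient_mul_card_subgroup N]
    exact lt_mul_of_one_lt_right Nat.card_pos ((Subgroup.one_lt_card_iff_ne_bot N).2 hN)
  have hlift : ∀ (N : Subgroup G) [N.Normal] (r : ℕ), (Nat.card N).Coprime r →
      (pPrimeCore r (G ⧸ N)).index = (pPrimeCore r G).index := by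
    intro N _ r h
    rw [← Core.comap_pPrimeCore_quotient N h,
      Subgroup.index_comap_of_surjective _ (QuotientGroup.mk'_surjective N)]
  have side : ∀ (a b : ℕ) [Fact a.Prime] [Fact b.Prime], a ≠ b → IsPSolvable a G →
      IsPSolvable b G → PrimeDeg a b G → pCore a G ≠ ⊥ →
      (∀ N : Subgroup G, ∀ _ : N.Normal, N ≠ ⊥ → ¬ a ∣ (pPrimeCore b (G ⧸ N)).index) →
      ¬ b ∣ (pPrimeCore a G).index ∧ ¬ a ∣ (pPrimeCore b G).index := by
    intro a b ha hb hab has hbs had hOa hrec
    have hcop : (Nat.card (pCore a G)).Coprime b := by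
      obtain ⟨k, hk⟩ := Core.card_pCore_eq_pow a G
      rw [hk]
      exact ((Nat.coprime_primes ha.out hb.out).2 hab).pow_left _
    have h1 : ¬ a ∣ (pPrimeCore b G).index := by
      rw [← hlift (pCore a G) b hcop]
      exact hrec _ inferInstance hOa
    refine ⟨?_, h1⟩
    have hf : Function.Surjective (QuotientGroup.mk' (pPrimeCore a G)) :=
      QuotientGroup.mk'_surjective _
    rw [Subgroup.index_eq_card]
    exact not_dvd_card hab _ _ rfl (Core.isPSolvable_quotient has _)
      (Core.isPSolvable_quotient hbs _) (Core.pPrimeCore_quotient_pPrimeCore a G)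
      (fun h => h1 (h.trans (index_core_dvd hf b))) (primeDeg_of_surjective hf had)
  by_cases hboth : pPrimeCore p G ⊓ pPrimeCore q G = ⊥
  swap
  · obtain ⟨h1, h2⟩ := hIH _ inferInstance hboth
    refine ⟨?_, ?_⟩
    · rwa [hlift _ p ((Core.card_pPrimeCore_coprime p G).coprime_dvd_left
        (Subgroup.card_dvd_of_le inf_le_left))] at h1
    · rwa [hlift _ q ((Core.card_pPrimeCore_coprime q G).coprime_dvd_left
        (Subgroup.card_dvd_of_le inf_le_right))] at h2
  by_cases hOp : pCore p G = ⊥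
  swap
  · exact side p q hpq hps hqs hpd hOp fun N hN h => (hIH N hN h).2
  by_cases hOq : pCore q G = ⊥
  swap
  · exact (side q p hpq.symm hqs hps hqd hOq fun N hN h => (hIH N hN h).1).symm
  exfalso
  have hM : pPrimeCore p G ≠ ⊥ := by
    rcases Core.piCore_ne_bot_or (Core.isPiSeparable_of_isPSolvable hps) with h | h
    · rw [← Core.pCore_eq_piCore] at h; exact absurd hOp h
    · rwa [← Core.pPrimeCore_eq_piCore] at h
  haveI : Nontrivial (pPrimeCore p G) := (Subgroup.nontrivial_iff_ne_bot _).2 hM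
  rcases Core.piCore_ne_bot_or (Core.isPiSeparable_of_isPSolvable
      (Core.isPSolvable_subgroup hqs (pPrimeCore p G))) with h | h
  · rw [← Core.pCore_eq_piCore] at h
    exact h (Core.pCore_eq_bot_of_normal _ hOq)
  · rw [← Core.pPrimeCore_eq_piCore] at h
    refine h ((Subgroup.map_eq_bot_iff_of_injective _ (pPrimeCore p G).subtype_injective).1 ?_)
    rw [Core.map_pPrimeCore_subtype, ← le_bot_iff, ← hboth]
    exact le_inf (le_of_eq_of_le rfl (by first | exact inf_le_left | exact inf_le_right))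
      (by first | exact inf_le_left | exact inf_le_right)

end Cfsg.Agent.CrossDeg
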